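import Mathlib

/-!
Primes closed in the generic fibre below a given point of the special fibre.

For a finite type domain `C` over a valuation ring `O` which is not a field, a maximal ideal
`Q` of `C` over the closed point and `c ≠ 0`, there is a prime `q₁ ≤ Q` over `0` which is
closed in the generic fibre and does not contain `c`. Proof: Noether normalization of the
special fibre, Zariski's main theorem at `Q` and going down along an integral extension of
the integrally closed domain `O[X]`.
-/

universe u

namespace GrothLib.SpecDense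

instance isIntegrallyClosed_mvPolynomial_fin {R : Type u} [CommRing R] [IsDomain R]
    [IsIntegrallyClosed R] (n : ℕ) : IsIntegrallyClosed (MvPolynomial (Fin n) R) := by
  induction n with
  | zero => exact IsIntegrallyClosed.of_equiv (MvPolynomial.isEmptyRingEquiv R (Fin 0)).symm
  | succ n ih =>
    exact IsIntegrallyClosed.of_equiv (MvPolynomial.finSuccEquiv R n).symm.toRingEquiv

/-- After composing a Noether normalization with monic polynomials in each variable, one can
assume that all variables map into a given maximal ideal. -/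
lemma exists_normalization_at {k C : Type u} [Field k] [CommRing C] [Algebra k C]
    [Algebra.FiniteType k C] (Q : Ideal C) [Q.IsMaximal] :
    ∃ (s : ℕ) (g : MvPolynomial (Fin s) k →ₐ[k] C),
      Function.Injective g ∧ g.Finite ∧ ∀ i, g (MvPolynomial.X i) ∈ Q := by
  have : Nontrivial C := ⟨⟨0, 1, fun h => ‹Q.IsMaximal›.ne_top
    (Q.eq_top_iff_one.2 (h ▸ Q.zero_mem))⟩⟩
  obtain ⟨s, g, hinj, hfin⟩ := exists_finite_inj_algHom_of_fg k C
  letI : Field (C ⧸ Q) := Ideal.Quotient.field Q
  have : Algebra.FiniteType k (C ⧸ Q) :=
    Algebra.FiniteType.of_surjective (Ideal.Quotient.mkₐ k Q) Ideal.Quotient.mk_surjective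
  have hf : Module.Finite k (C ⧸ Q) := finite_of_finite_type_of_isJacobsonRing k (C ⧸ Q)
  have hi : ∀ i, IsIntegral k (Ideal.Quotient.mk Q (g (MvPolynomial.X i))) :=
    fun i => IsIntegral.of_finite k _
  let P : Fin s → Polynomial k := fun i => minpoly k (Ideal.Quotient.mk Q (g (MvPolynomial.X i)))
  have hP : ∀ i, (P i).Monic := fun i => minpoly.monic (hi i)
  have hd : ∀ i, (P i).natDegree ≠ 0 := fun i => (minpoly.natDegree_pos (hi i)).ne'
  let e : MvPolynomial (Fin s) k →ₐ[k] MvPolynomial (Fin s) k :=
    MvPolynomial.aeval fun i => Polynomial.aeval (MvPolynomial.X i) (P i)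
  have he : Function.Injective e := by
    have h := MvPolynomial.algebraicIndependent_polynomial_aeval_X P
      fun i => Polynomial.transcendental _ (hd i) (by rw [(hP i).leadingCoeff]; exact one_mem _)
    exact h
  have hee : e.Finite := by
    refine RingHom.IsIntegral.to_finite ?_ ?_
    · letI : Algebra (MvPolynomial (Fin s) k) (MvPolynomial (Fin s) k) := e.toRingHom.toAlgebra
      intro x
      show IsIntegral (MvPolynomial (Fin s) k) x
      induction x using MvPolynomial.induction_on with
      | C a =>
        have : algebraMap (MvPolynomial (Fin s) k) (MvPolynomial (Fin s) k) (MvPolynomial.C a) =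
            MvPolynomial.C a := by
          rw [RingHom.algebraMap_toAlgebra]
          exact MvPolynomial.aeval_C _ a
        rw [← this]
        exact isIntegral_algebraMap
      | add p q hp hq => exact hp.add hq
      | mul_X p i hp =>
        refine hp.mul ⟨(P i).map MvPolynomial.C - Polynomial.C (MvPolynomial.X i), ?_, ?_⟩
        · refine ((hP i).map _).sub_of_left (lt_of_le_of_lt Polynomial.degree_C_le ?_)
          rw [Polynomial.degree_map_eq_of_injective (MvPolynomial.C_injective _ _),
            ← Polynomial.natDegree_pos_iff_degree_pos]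
          exact Nat.pos_of_ne_zero (hd i)
        · rw [Polynomial.eval₂_sub, Polynomial.eval₂_C, Polynomial.eval₂_map]
          rw [RingHom.algebraMap_toAlgebra]
          have h1 : e.toRingHom.comp MvPolynomial.C = algebraMap k (MvPolynomial (Fin s) k) := by
            ext a
            simp [MvPolynomial.algebraMap_eq, e]
          rw [h1, ← Polynomial.aeval_def]
          simp [e]
    · have h : RingHom.FiniteType (algebraMap k (MvPolynomial (Fin s) k)) :=
        RingHom.finiteType_algebraMap.2 inferInstance
      rw [← e.comp_algebraMap] at h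
      exact h.of_comp_finiteType
  refine ⟨s, g.comp e, hinj.comp he, ?_, fun i => ?_⟩
  · exact RingHom.Finite.comp hfin hee
  · rw [← Ideal.Quotient.eq_zero_iff_mem]
    show Ideal.Quotient.mkₐ k Q (g (e (MvPolynomial.X i))) = 0
    have : e (MvPolynomial.X i) = Polynomial.aeval (MvPolynomial.X i) (P i) := by simp [e]
    rw [this, ← Polynomial.aeval_algHom_apply, ← Polynomial.aeval_algHom_apply]
    exact minpoly.aeval k _

/-- A nonzero polynomial over a valuation ring is a scalar times a polynomial which is nonzero
modulo the maximal ideal. -/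
lemma exists_primitive {O : Type u} [CommRing O] [IsDomain O] [ValuationRing O] {σ : Type*}
    (P : MvPolynomial σ O) (hP : P ≠ 0) :
    ∃ (a : O) (P₁ : MvPolynomial σ O), P = MvPolynomial.C a * P₁ ∧
      MvPolynomial.map (Ideal.Quotient.mk (IsLocalRing.maximalIdeal O)) P₁ ≠ 0 := by
  classical
  let I : Ideal O := Ideal.span (P.coeffs : Set O)
  obtain ⟨a, ha⟩ : ∃ a, I = Ideal.span {a} :=
    (IsBezout.isPrincipal_of_FG I ⟨P.coeffs, rfl⟩).principal
  have hdvd : ∀ n, a ∣ P.coeff n := by
    intro n
    rw [← Ideal.mem_span_singleton, ← ha]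
    by_cases hn : P.coeff n = 0
    · rw [hn]; exact zero_mem _
    · exact Ideal.subset_span (MvPolynomial.coeff_mem_coeffs n hn)
  obtain ⟨P₁, hP₁⟩ : ∃ P₁, P = MvPolynomial.C a * P₁ :=
    (MvPolynomial.C_dvd_iff_dvd_coeff a P).2 hdvd
  refine ⟨a, P₁, hP₁, fun h => ?_⟩
  have ha0 : a ≠ 0 := by
    rintro rfl
    exact hP (by rw [hP₁, map_zero, zero_mul])
  have hle : I ≤ Ideal.span {a} * IsLocalRing.maximalIdeal O := by
    refine Ideal.span_le.2 fun x hx => ?_
    obtain ⟨n, -, rfl⟩ := MvPolynomial.mem_coeffs_iff.1 hx
    rw [hP₁, MvPolynomial.coeff_C_mul]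
    refine Ideal.mul_mem_mul (Ideal.mem_span_singleton_self a) ?_
    rw [← Ideal.Quotient.eq_zero_iff_mem, ← MvPolynomial.coeff_map, h, MvPolynomial.coeff_zero]
  have : a ∈ Ideal.span {a} * IsLocalRing.maximalIdeal O :=
    hle (ha ▸ Ideal.mem_span_singleton_self a)
  obtain ⟨z, hz, hz'⟩ := Ideal.mem_span_singleton_mul.1 this
  have : z = 1 := mul_left_cancel₀ ha0 (hz'.trans (mul_one a).symm)
  subst this
  exact (IsLocalRing.maximalIdeal.isMaximal O).ne_top ((Ideal.eq_top_iff_one _).2 hz)

/-- A domain which is a local ring but not a field has infinite maximal ideal. -/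
lemma infinite_maximalIdeal {O : Type u} [CommRing O] [IsDomain O] [IsLocalRing O]
    (hO : ¬ IsField O) : (IsLocalRing.maximalIdeal O : Set O).Infinite := by
  obtain ⟨π, hπ, hπ0⟩ := (Submodule.ne_bot_iff _).1
    (mt IsLocalRing.isField_iff_maximalIdeal_eq.2 hO)
  have : Infinite O := by
    by_contra h
    rw [not_infinite_iff_finite] at h
    exact hO (Finite.isField_of_domain O)
  exact (Set.infinite_range_of_injective (mul_right_injective₀ hπ0)).mono
    (Set.range_subset_iff.2 fun x => Ideal.mul_mem_right x _ hπ)

end GrothLib.SpecDense
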