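import Mathlib
import Groth.Agent.Lib.SpecDense.Core

/-!
Primes closed in the generic fibre, specializing to a given point closed in its fibre.
-/

universe u

namespace GrothLib.SpecDense

open MvPolynomial in
/-- The case of a valuation ring which is not a field. -/
theorem exists_closed_generic_prime_valuationRing {O T : Type u} [CommRing O] [IsDomain O]
    [ValuationRing O] (hO : ¬ IsField O) [CommRing T] [IsDomain T] [Algebra O T]
    [FaithfulSMul O T] [Algebra.FiniteType O T] (Q : Ideal T) [Q.IsMaximal]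
    (hQ : IsLocalRing.maximalIdeal O ≤ Q.comap (algebraMap O T)) (c : T) (hc : c ≠ 0) :
    ∃ q₁ : Ideal T, q₁.IsPrime ∧ q₁ ≤ Q ∧ c ∉ q₁ ∧ q₁.comap (algebraMap O T) = ⊥ ∧
      ∀ q₂ : Ideal T, q₂.IsPrime → q₁ ≤ q₂ → q₂.comap (algebraMap O T) = ⊥ → q₂ = q₁ := by
  classical
  letI : Field (O ⧸ IsLocalRing.maximalIdeal O) := Ideal.Quotient.field _
  set I : Ideal T := (IsLocalRing.maximalIdeal O).map (algebraMap O T) with hI
  have hIQ : I ≤ Q := Ideal.map_le_iff_le_comap.2 hQ
  have : Algebra.FiniteType (O ⧸ IsLocalRing.maximalIdeal O) (T ⧸ I) := by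
    have : Algebra.FiniteType O (T ⧸ I) :=
      Algebra.FiniteType.of_surjective (Ideal.Quotient.mkₐ O I) Ideal.Quotient.mk_surjective
    exact Algebra.FiniteType.of_restrictScalars_finiteType O _ _
  set Q₀ : Ideal (T ⧸ I) := Q.map (Ideal.Quotient.mk I) with hQ₀
  have hQ₀c : Q₀.comap (Ideal.Quotient.mk I) = Q := by
    rw [hQ₀, Ideal.comap_map_of_surjective _ Ideal.Quotient.mk_surjective,
      ← RingHom.ker_eq_comap_bot, Ideal.mk_ker]
    exact sup_eq_left.2 hIQ
  have : Q₀.IsMaximal := by
    refine (Ideal.map_eq_top_or_isMaximal_of_surjective _ Ideal.Quotient.mk_surjective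
      ‹Q.IsMaximal›).resolve_left fun h => ‹Q.IsMaximal›.ne_top ?_
    rw [← hQ₀c, hQ₀, h, Ideal.comap_top]
  obtain ⟨s, g, hginj, hgfin, hgQ⟩ :=
    exists_normalization_at (k := O ⧸ IsLocalRing.maximalIdeal O) Q₀
  choose t ht using fun i => Ideal.Quotient.mk_surjective (I := I) (g (X i))
  have htQ : ∀ i, t i ∈ Q := by
    intro i
    rw [← hQ₀c, Ideal.mem_comap, ht]
    exact hgQ i
  let φ : MvPolynomial (Fin s) O →ₐ[O] T := aeval t
  let res : MvPolynomial (Fin s) O →+* MvPolynomial (Fin s) (O ⧸ IsLocalRing.maximalIdeal O) :=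
    MvPolynomial.map (Ideal.Quotient.mk _)
  have hres : (Ideal.Quotient.mk I).comp φ.toRingHom = g.toRingHom.comp res := by
    refine MvPolynomial.ringHom_ext (fun a => ?_) fun i => ?_
    · simp only [RingHom.comp_apply, res, MvPolynomial.map_C, AlgHom.toRingHom_eq_coe,
        RingHom.coe_coe, φ, aeval_C]
      rw [show (C (Ideal.Quotient.mk (IsLocalRing.maximalIdeal O) a) :
        MvPolynomial (Fin s) (O ⧸ IsLocalRing.maximalIdeal O)) = algebraMap _ _ _ from rfl,
        g.commutes]
      rfl
    · simp only [RingHom.comp_apply, res, MvPolynomial.map_X, AlgHom.toRingHom_eq_coe,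
        RingHom.coe_coe, φ, aeval_X]
      exact ht i
  have hφinj : Function.Injective φ := by
    rw [injective_iff_map_eq_zero]
    intro P hP
    by_contra hP0
    obtain ⟨a, P₁, hP₁, hne⟩ := exists_primitive P hP0
    rw [hP₁, map_mul, show φ (C a) = algebraMap O _ a from aeval_C _ a, mul_eq_zero] at hP
    rcases hP with h | h
    · refine hP0 ?_
      rw [hP₁, (FaithfulSMul.algebraMap_eq_zero_iff O _).1 h, map_zero, zero_mul]
    · refine hne (hginj ?_)
      rw [map_zero]
      have := RingHom.congr_fun hres P₁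
      simp only [RingHom.comp_apply, AlgHom.toRingHom_eq_coe, RingHom.coe_coe, h, map_zero] at this
      exact this.symm
  -- the algebra structure over `O[X]`
  letI : Algebra (MvPolynomial (Fin s) O) _ := φ.toRingHom.toAlgebra
  have hφalg : ∀ P, algebraMap (MvPolynomial (Fin s) O) _ P = φ P := fun _ => rfl
  have : IsScalarTower O (MvPolynomial (Fin s) O) _ :=
    IsScalarTower.of_algebraMap_eq fun x => (φ.commutes x).symm
  have hft := Algebra.FiniteType.of_restrictScalars_finiteType O (MvPolynomial (Fin s) O) T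
  have : FaithfulSMul (MvPolynomial (Fin s) O) _ :=
    (faithfulSMul_iff_algebraMap_injective _ _).2 hφinj
  -- evaluation points
  have heval : ∀ (a : Fin s → O), (∀ i, a i ∈ IsLocalRing.maximalIdeal O) →
      RingHom.ker (eval a) ≤ Q.comap (algebraMap (MvPolynomial (Fin s) O) T) := by
    intro a ha P hP
    rw [Ideal.mem_comap, hφalg, ← Ideal.Quotient.eq_zero_iff_mem]
    have : (Ideal.Quotient.mk Q).comp φ.toRingHom =
        ((Ideal.Quotient.mk Q).comp (algebraMap O _)).comp (eval a) := by
      refine MvPolynomial.ringHom_ext (fun x => by simp [φ]) fun i => ?_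
      simp only [RingHom.comp_apply, AlgHom.toRingHom_eq_coe, RingHom.coe_coe, φ, aeval_X, eval_X]
      rw [Ideal.Quotient.eq_zero_iff_mem.2 (htQ i),
        Ideal.Quotient.eq_zero_iff_mem.2 (Ideal.mem_comap.1 (hQ (ha i)))]
    have := RingHom.congr_fun this P
    simp only [RingHom.comp_apply, AlgHom.toRingHom_eq_coe, RingHom.coe_coe] at this
    rw [this, RingHom.mem_ker.1 hP, map_zero, map_zero]
  set P₀ : Ideal (MvPolynomial (Fin s) O) := Q.under _ with hP₀
  -- quasi-finiteness at `Q`
  have hqf : Algebra.WeaklyQuasiFiniteAt (MvPolynomial (Fin s) O) Q := by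
    have hI₁ : I ≤ P₀.map (algebraMap (MvPolynomial (Fin s) O) T) := by
      rw [hI, Ideal.map_le_iff_le_comap]
      intro x hx
      rw [Ideal.mem_comap, IsScalarTower.algebraMap_apply O (MvPolynomial (Fin s) O) _ x]
      refine Ideal.mem_map_of_mem _ ?_
      show algebraMap _ _ (algebraMap O (MvPolynomial (Fin s) O) x) ∈ Q
      rw [← IsScalarTower.algebraMap_apply]
      exact hQ hx
    have hfin : Module.Finite (MvPolynomial (Fin s) O)
        (T ⧸ P₀.map (algebraMap (MvPolynomial (Fin s) O) T)) := by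
      rw [← RingHom.finite_algebraMap]
      have h1 : RingHom.Finite res := RingHom.Finite.of_surjective _
        (MvPolynomial.map_surjective _ Ideal.Quotient.mk_surjective)
      have h2 := (RingHom.Finite.of_surjective _
        (Ideal.Quotient.factor_surjective hI₁)).comp (RingHom.Finite.comp hgfin h1)
      convert h2 using 1
      rw [← hres, ← RingHom.comp_assoc, Ideal.Quotient.factor_comp_mk]
      rfl
    infer_instance
  obtain ⟨S', hS', r, hrQ, hbij⟩ :=
    Algebra.QuasiFiniteAt.exists_fg_and_exists_notMem_and_awayMap_bijective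
      (R := MvPolynomial (Fin s) O) Q
  have : Module.Finite (MvPolynomial (Fin s) O) S' := ⟨(Submodule.fg_top _).2 hS'⟩
  have : FaithfulSMul (MvPolynomial (Fin s) O) S' :=
    (faithfulSMul_iff_algebraMap_injective _ _).2 fun x y h => hφinj (congrArg Subtype.val h)
  have hr0 : r.1 ≠ 0 := fun h => hrQ (h ▸ Q.zero_mem)
  have hpow : ∀ b, ∃ n : ℕ, r.1 ^ n * b ∈ S' := by
    intro b
    obtain ⟨z, hz⟩ := hbij.2 (algebraMap T (Localization.Away r.1) b)
    obtain ⟨z, ⟨-, n, rfl⟩, rfl⟩ := IsLocalization.exists_mk'_eq (Submonoid.powers r) z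
    refine ⟨n, ?_⟩
    rw [Localization.awayMap, IsLocalization.Away.map, IsLocalization.map_mk',
      IsLocalization.mk'_eq_iff_eq_mul] at hz
    replace hz : algebraMap T (Localization.Away r.1) z.1 =
        algebraMap T (Localization.Away r.1) b * algebraMap T (Localization.Away r.1) (r.1 ^ n) := by
      have h0 : (S'.val.toRingHom (r ^ n)) = r.1 ^ n := map_pow S'.val.toRingHom r n
      rw [← h0]; exact hz
    rw [← map_mul] at hz
    have : z.1 = b * r.1 ^ n :=
      IsLocalization.injective (Localization.Away r.1)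
        (powers_le_nonZeroDivisors_of_noZeroDivisors hr0) hz
    rw [mul_comm, ← this]
    exact z.2
  obtain ⟨m, hm⟩ := hpow c
  obtain ⟨p₀, hp₀, hp₀0⟩ := (Submodule.ne_bot_iff _).1
    (Ideal.comap_ne_bot_of_integral_mem (R := MvPolynomial (Fin s) O) (S := S')
      (x := ⟨r.1 ^ m * c, hm⟩)
      (fun h => mul_ne_zero (pow_ne_zero m hr0) hc (congrArg Subtype.val h))
      (Ideal.mem_span_singleton_self _) (Algebra.IsIntegral.isIntegral _))
  obtain ⟨a, ha, ha0⟩ : ∃ a : Fin s → O, (∀ i, a i ∈ IsLocalRing.maximalIdeal O) ∧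
      eval a p₀ ≠ 0 := by
    by_contra h
    push Not at h
    exact hp₀0 (MvPolynomial.funext_set (fun _ => (IsLocalRing.maximalIdeal O : Set O))
      (fun _ => infinite_maximalIdeal hO) fun x hx =>
        (h x fun i => hx i trivial).trans (map_zero _).symm)
  have : (RingHom.ker (eval a)).IsPrime := RingHom.ker_isPrime _
  set QS : Ideal S' := Q.comap S'.val.toRingHom with hQS
  have : QS.LiesOver P₀ := ⟨rfl⟩
  obtain ⟨Q₁, hQ₁, hQ₁p, hQ₁o⟩ := Ideal.exists_ideal_le_liesOver_of_le QS
    (p := RingHom.ker (eval a)) (q := P₀) (heval a ha)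
  have hrQ₁ : r ∉ Q₁ := fun h => hrQ (hQ₁ h)
  have hmem : ∀ P, algebraMap (MvPolynomial (Fin s) O) S' P ∈ Q₁ ↔ eval a P = 0 := fun P => by
    rw [← RingHom.mem_ker, hQ₁o.over]
    rfl
  -- the prime of `C`
  let e := RingEquiv.ofBijective _ hbij
  have : (Q₁.map (algebraMap S' (Localization.Away r))).IsPrime := by
    refine IsLocalization.isPrime_of_isPrime_disjoint (Submonoid.powers r) _ _ hQ₁p ?_
    rw [Set.disjoint_left]
    rintro - ⟨n, rfl⟩ h
    exact hrQ₁ (hQ₁p.mem_of_pow_mem n h)
  let q₁ := (Q₁.map (algebraMap S' (Localization.Away r))).comap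
    (e.symm.toRingHom.comp (algebraMap T (Localization.Away r.1)))
  have hq₁S : ∀ x : S', x.1 ∈ q₁ ↔ x ∈ Q₁ := by
    intro x
    have : e.symm (algebraMap T (Localization.Away r.1) x.1) =
        algebraMap S' (Localization.Away r) x := by
      rw [RingEquiv.symm_apply_eq]
      show _ = Localization.awayMap S'.val.toRingHom r (algebraMap S' (Localization.Away r) x)
      rw [Localization.awayMap, IsLocalization.Away.map, IsLocalization.map_eq]
      rfl
    show e.symm (algebraMap T (Localization.Away r.1) x.1) ∈ Q₁.map _ ↔ _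
    rw [this, ← Ideal.mem_comap]
    have := IsLocalization.comap_map_of_isPrime_disjoint (Submonoid.powers r)
      (Localization.Away r) hQ₁p (by
        rw [Set.disjoint_left]
        rintro - ⟨n, rfl⟩ h
        exact hrQ₁ (hQ₁p.mem_of_pow_mem n h))
    exact SetLike.ext_iff.1 this x
  have hq₁p : q₁.IsPrime := inferInstance
  have hrq₁ : r.1 ∉ q₁ := fun h => hrQ₁ ((hq₁S r).1 h)
  refine ⟨q₁, hq₁p, fun b hb => ?_, fun h => ?_, ?_, fun q₂ hq₂ hle hbot => ?_⟩
  · obtain ⟨n, hn⟩ := hpow b
    have h1 : (⟨_, hn⟩ : S') ∈ Q₁ := (hq₁S ⟨_, hn⟩).1 (q₁.mul_mem_left _ hb)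
    exact ((‹Q.IsMaximal›.isPrime.mem_or_mem (hQ₁ h1)).resolve_left
      fun h => hrQ (‹Q.IsMaximal›.isPrime.mem_of_pow_mem n h))
  · have h1 : (⟨_, hm⟩ : S') ∈ Q₁ := (hq₁S ⟨_, hm⟩).1 (q₁.mul_mem_left _ h)
    exact ha0 ((hmem p₀).1 ((Ideal.span_singleton_le_iff_mem _).2 h1 hp₀))
  · refine (Submodule.eq_bot_iff _).2 fun x hx => ?_
    rw [Ideal.mem_comap, IsScalarTower.algebraMap_apply O (MvPolynomial (Fin s) O) _ x] at hx
    have := (hmem (algebraMap O (MvPolynomial (Fin s) O) x)).1
      ((hq₁S (algebraMap (MvPolynomial (Fin s) O) S' _)).1 hx)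
    simpa using this
  · refine le_antisymm (fun b hb => ?_) hle
    set Q₂ : Ideal S' := q₂.comap S'.val.toRingHom with hQ₂
    have hle₂ : Q₁ ≤ Q₂ := fun x hx => hle ((hq₁S x).2 hx)
    have h12 : Q₂ ≤ Q₁ := by
      intro x hx
      by_contra hxn
      have hlt := Ideal.comap_lt_comap_of_integral_mem_sdiff hle₂ ⟨hx, hxn⟩
        (Algebra.IsIntegral.isIntegral (R := MvPolynomial (Fin s) O) x)
      refine hlt.not_ge fun P (hP : algebraMap (MvPolynomial (Fin s) O) S' P ∈ Q₂) => ?_
      refine (hmem P).2 ?_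
      rw [← Submodule.mem_bot O, ← hbot, Ideal.mem_comap]
      have h2 : algebraMap (MvPolynomial (Fin s) O) S' (P - C (eval a P)) ∈ Q₂ :=
        hle₂ ((hmem _).2 (by simp))
      rw [map_sub] at h2
      have h3 := Q₂.sub_mem hP h2
      rw [sub_sub_cancel] at h3
      rw [show (C (eval a P) : MvPolynomial (Fin s) O) = algebraMap O _ (eval a P) from rfl] at h3
      rw [IsScalarTower.algebraMap_apply O (MvPolynomial (Fin s) O) _ (eval a P)]
      exact h3
    obtain ⟨n, hn⟩ := hpow b
    have h1 : (⟨_, hn⟩ : S') ∈ Q₁ := h12 (q₂.mul_mem_left _ hb)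
    exact (hq₁p.mem_or_mem ((hq₁S ⟨_, hn⟩).2 h1)).resolve_left
      fun h => hrq₁ (hq₁p.mem_of_pow_mem n h)

/-- Elements of an adjoined algebra over fractions of `A` become fractions of `B`. -/
lemma exists_smul_eq_algebraMap {A K B L : Type u} [CommRing A] [IsDomain A] [Field K]
    [Algebra A K] [IsFractionRing A K] [CommRing B] [Algebra A B] [Field L] [Algebra A L]
    [Algebra K L] [IsScalarTower A K L] [Algebra B L] [IsScalarTower A B L]
    (O : Subring K) (s : Set B) (x : L)
    (hx : x ∈ Subring.closure ((algebraMap K L '' O) ∪ algebraMap B L '' s)) :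
    ∃ a : A, a ≠ 0 ∧ ∃ b : B, algebraMap A L a * x = algebraMap B L b := by
  induction hx using Subring.closure_induction with
  | mem x h =>
    rcases h with ⟨k, -, rfl⟩ | ⟨b, -, rfl⟩
    · obtain ⟨a₁, a₂, ha₂, hk⟩ := IsFractionRing.div_surjective (A := A) k
      refine ⟨a₂, nonZeroDivisors.ne_zero ha₂, algebraMap A B a₁, ?_⟩
      have : algebraMap A K a₂ * k = algebraMap A K a₁ := by
        rw [← hk, mul_div_cancel₀]
        exact IsFractionRing.to_map_ne_zero_of_mem_nonZeroDivisors ha₂
      rw [IsScalarTower.algebraMap_apply A K L, ← map_mul, this,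
        ← IsScalarTower.algebraMap_apply, ← IsScalarTower.algebraMap_apply]
    · exact ⟨1, one_ne_zero, b, by simp⟩
  | zero => exact ⟨1, one_ne_zero, 0, by simp⟩
  | one => exact ⟨1, one_ne_zero, 1, by simp⟩
  | add x y _ _ hx hy =>
    obtain ⟨a, ha, b, h⟩ := hx
    obtain ⟨a', ha', b', h'⟩ := hy
    refine ⟨a * a', mul_ne_zero ha ha', algebraMap A B a' * b + algebraMap A B a * b', ?_⟩
    simp only [map_mul, map_add, ← h, ← h', ← IsScalarTower.algebraMap_apply]
    ring
  | neg x _ hx =>
    obtain ⟨a, ha, b, h⟩ := hx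
    exact ⟨a, ha, -b, by rw [mul_neg, h, map_neg]⟩
  | mul x y _ _ hx hy =>
    obtain ⟨a, ha, b, h⟩ := hx
    obtain ⟨a', ha', b', h'⟩ := hy
    refine ⟨a * a', mul_ne_zero ha ha', b * b', ?_⟩
    simp only [map_mul, ← h, ← h']
    ring

/-- Let `B` be a finite type domain over a domain `A ⊆ B` and `q` a prime of `B` over a nonzero
prime of `A`, maximal in its fibre. Every nonzero `g` avoids some prime `q₁ ≤ q` over `0`
which is closed in the generic fibre. -/
theorem exists_closed_generic_prime {A B : Type u} [CommRing A] [IsDomain A] [CommRing B]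
    [IsDomain B] [Algebra A B] [FaithfulSMul A B] [Algebra.FiniteType A B]
    (q : Ideal B) [q.IsPrime] (hq : q.comap (algebraMap A B) ≠ ⊥)
    (hmax : ∀ q' : Ideal B, q'.IsPrime → q ≤ q' →
      q'.comap (algebraMap A B) = q.comap (algebraMap A B) → q' = q)
    (g : B) (hg : g ≠ 0) :
    ∃ q₁ : Ideal B, q₁.IsPrime ∧ q₁ ≤ q ∧ g ∉ q₁ ∧ q₁.comap (algebraMap A B) = ⊥ ∧
      ∀ q₂ : Ideal B, q₂.IsPrime → q₁ ≤ q₂ → q₂.comap (algebraMap A B) = ⊥ → q₂ = q₁ := by
  classical
  let L := FractionRing B
  let K := FractionRing A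
  have : FaithfulSMul A L := (faithfulSMul_iff_algebraMap_injective _ _).2 (by
    rw [IsScalarTower.algebraMap_eq A B L]
    exact (IsFractionRing.injective B L).comp (FaithfulSMul.algebraMap_injective A B))
  letI : Algebra K L := FractionRing.liftAlgebra A L
  have hBL : Function.Injective (algebraMap B L) := IsFractionRing.injective B L
  let j : B →+* (algebraMap B L).range := (algebraMap B L).rangeRestrict
  have hj : Function.Bijective j := ⟨fun x y h => hBL (congrArg Subtype.val h),
    (algebraMap B L).rangeRestrict_surjective⟩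
  let ej := RingEquiv.ofBijective j hj
  let qL : Ideal (algebraMap B L).range := q.comap ej.symm.toRingHom
  have : qL.IsPrime := inferInstance
  obtain ⟨V, hVle, hVloc⟩ := (LocalSubring.ofPrime (algebraMap B L).range qL).exists_le_valuationSubring
  have hBV : ∀ b, algebraMap B L b ∈ V := fun b =>
    hVle (LocalSubring.le_ofPrime _ qL ⟨b, rfl⟩)
  let ι : B →+* V := (algebraMap B L).codRestrict V.toSubring hBV
  have hιq : (IsLocalRing.maximalIdeal V).comap ι = q := by
    ext b
    have hmemq : j b ∈ qL ↔ b ∈ q := by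
      show ej.symm (j b) ∈ q ↔ _
      rw [show j b = ej b from rfl, ej.symm_apply_apply]
    rw [Ideal.mem_comap, IsLocalRing.mem_maximalIdeal, mem_nonunits_iff, ← hmemq, ← not_iff_not,
      not_not]
    have hmap := IsLocalization.AtPrime.isUnit_to_map_iff
      (LocalSubring.ofPrime (algebraMap B L).range qL).toSubring qL (j b)
    constructor
    · intro hu
      exact hmap.1 (hVloc.1 _ hu)
    · intro hn
      exact (hmap.2 hn).map (Subring.inclusion hVle)
  -- the valuation ring below
  let O : ValuationSubring K := V.comap (algebraMap K L)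
  have hOmem : ∀ a : A, algebraMap A K a ∈ O := fun a => by
    show algebraMap K L (algebraMap A K a) ∈ V
    rw [← IsScalarTower.algebraMap_apply, IsScalarTower.algebraMap_apply A B L]
    exact hBV _
  letI : Algebra O L := ((algebraMap K L).comp O.subtype).toAlgebra
  have : FaithfulSMul O L := (faithfulSMul_iff_algebraMap_injective _ _).2
    ((algebraMap K L).injective.comp Subtype.val_injective)
  obtain ⟨s, hs⟩ := Algebra.FiniteType.out (R := A) (A := B)
  let T : Subalgebra O L := Algebra.adjoin O (algebraMap B L '' (s : Set B))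
  have : Algebra.FiniteType O T :=
    (Subalgebra.fg_iff_finiteType _).1 (Subalgebra.fg_def.2 ⟨_, s.finite_toSet.image _, rfl⟩)
  have hTV : ∀ x ∈ T, x ∈ V := by
    intro x hx
    induction hx using Algebra.adjoin_induction with
    | mem x hx => obtain ⟨b, -, rfl⟩ := hx; exact hBV b
    | algebraMap o => exact o.2
    | add x y _ _ hx hy => exact V.add_mem _ _ hx hy
    | mul x y _ _ hx hy => exact V.mul_mem _ _ hx hy
  have hBT : ∀ b, algebraMap B L b ∈ T := by
    intro b
    have hb : b ∈ Algebra.adjoin A (s : Set B) := hs ▸ Algebra.mem_top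
    induction hb using Algebra.adjoin_induction with
    | mem x hx => exact Algebra.subset_adjoin ⟨x, hx, rfl⟩
    | algebraMap a =>
      rw [← IsScalarTower.algebraMap_apply, IsScalarTower.algebraMap_apply A K L]
      exact T.algebraMap_mem ⟨_, hOmem a⟩
    | add x y _ _ hx hy => rw [map_add]; exact T.add_mem hx hy
    | mul x y _ _ hx hy => rw [map_mul]; exact T.mul_mem hx hy
  let jT : B →+* T := (algebraMap B L).codRestrict T.toSubring hBT
  let τ : T →+* V := T.val.toRingHom.codRestrict V.toSubring fun x => hTV x.1 x.2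
  let QV : Ideal T := (IsLocalRing.maximalIdeal V).comap τ
  obtain ⟨Q, hQmax, hQV⟩ := Ideal.exists_le_maximal QV (Ideal.IsPrime.ne_top inferInstance)
  have hmO : IsLocalRing.maximalIdeal O ≤ Q.comap (algebraMap O T) := by
    intro o ho
    refine Ideal.mem_comap.2 (hQV ?_)
    show τ (algebraMap O T o) ∈ IsLocalRing.maximalIdeal V
    rw [IsLocalRing.mem_maximalIdeal, mem_nonunits_iff] at ho ⊢
    intro hu
    refine ho ?_
    obtain ⟨y, hy⟩ := isUnit_iff_exists_inv.1 hu
    have hy' : algebraMap K L o.1 * y.1 = 1 := congrArg Subtype.val hy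
    refine isUnit_iff_exists_inv.2 ⟨⟨o.1⁻¹, ?_⟩, Subtype.ext (mul_inv_cancel₀ ?_)⟩
    · show algebraMap K L o.1⁻¹ ∈ V
      rw [map_inv₀, inv_eq_of_mul_eq_one_right hy']
      exact y.2
    · intro h0
      rw [h0, map_zero, zero_mul] at hy'
      exact zero_ne_one hy'
  have hQO : Q.comap (algebraMap O T) = IsLocalRing.maximalIdeal O :=
    ((IsLocalRing.maximalIdeal.isMaximal O).eq_of_le (Ideal.IsPrime.ne_top inferInstance) hmO).symm
  have hqQ : q ≤ Q.comap jT := by
    intro b hb
    rw [← hιq] at hb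
    exact hQV hb
  have hAO : ∀ a, jT (algebraMap A B a) = algebraMap O T ⟨_, hOmem a⟩ := fun a => by
    refine Subtype.ext ?_
    show algebraMap B L (algebraMap A B a) = algebraMap K L (algebraMap A K a)
    rw [← IsScalarTower.algebraMap_apply, ← IsScalarTower.algebraMap_apply]
  have hQq : Q.comap jT = q := by
    refine hmax _ inferInstance hqQ (le_antisymm (fun a ha => ?_) (Ideal.comap_mono hqQ))
    rw [Ideal.mem_comap, Ideal.mem_comap, hAO, ← Ideal.mem_comap, hQO] at ha
    rw [← hιq, Ideal.mem_comap, Ideal.mem_comap]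
    rw [IsLocalRing.mem_maximalIdeal, mem_nonunits_iff] at ha ⊢
    intro hu
    refine ha ?_
    obtain ⟨y, hy⟩ := isUnit_iff_exists_inv.1 hu
    have hy' : algebraMap B L (algebraMap A B a) * y.1 = 1 := congrArg Subtype.val hy
    rw [← IsScalarTower.algebraMap_apply, IsScalarTower.algebraMap_apply A K L] at hy'
    refine isUnit_iff_exists_inv.2 ⟨⟨(algebraMap A K a)⁻¹, ?_⟩, Subtype.ext (mul_inv_cancel₀ ?_)⟩
    · show algebraMap K L (algebraMap A K a)⁻¹ ∈ V
      rw [map_inv₀, inv_eq_of_mul_eq_one_right hy']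
      exact y.2
    · intro h0
      change algebraMap A K a = 0 at h0
      rw [h0, map_zero, zero_mul] at hy'
      exact zero_ne_one hy'
  have hO : ¬ IsField O := by
    intro hF
    obtain ⟨a, ha, ha0⟩ := (Submodule.ne_bot_iff _).1 hq
    have : (⟨_, hOmem a⟩ : O) ∈ IsLocalRing.maximalIdeal O := by
      rw [← hQO, Ideal.mem_comap, ← hAO]
      exact hqQ ha
    rw [IsLocalRing.isField_iff_maximalIdeal_eq.1 hF, Submodule.mem_bot] at this
    exact ha0 ((FaithfulSMul.algebraMap_eq_zero_iff A K).1 (congrArg Subtype.val this))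
  have : FaithfulSMul O T := (faithfulSMul_iff_algebraMap_injective _ _).2 fun x y h =>
    FaithfulSMul.algebraMap_injective O L (congrArg Subtype.val h)
  obtain ⟨q₁, hq₁, hq₁Q, hgq₁, hq₁O, hq₁max⟩ := exists_closed_generic_prime_valuationRing hO Q hmO
    (jT g) (fun h => hg (hBL (by simpa [jT] using congrArg Subtype.val h)))
  refine ⟨q₁.comap jT, inferInstance, hQq ▸ Ideal.comap_mono hq₁Q, hgq₁, ?_, ?_⟩
  · refine (Submodule.eq_bot_iff _).2 fun a ha => ?_
    rw [Ideal.mem_comap, Ideal.mem_comap, hAO, ← Ideal.mem_comap, hq₁O, Submodule.mem_bot] at ha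
    exact (FaithfulSMul.algebraMap_eq_zero_iff A K).1 (congrArg Subtype.val ha)
  · intro q₂ hq₂ hle hbot
    have hTden : ∀ x : T, ∃ a : A, a ≠ 0 ∧ ∃ b : B, algebraMap A L a * x.1 = algebraMap B L b := by
      intro x
      refine exists_smul_eq_algebraMap (K := K) O.toSubring (s : Set B) x.1 ?_
      obtain ⟨x, hx⟩ := x
      induction hx using Algebra.adjoin_induction with
      | mem x hx => exact Subring.subset_closure (Or.inr hx)
      | algebraMap o => exact Subring.subset_closure (Or.inl ⟨o.1, o.2, rfl⟩)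
      | add x y _ _ hx hy => exact Subring.add_mem _ hx hy
      | mul x y _ _ hx hy => exact Subring.mul_mem _ hx hy
    have hA2 : ∀ a : A, a ≠ 0 → algebraMap A B a ∉ q₂ := fun a ha h => ha (by
      rw [← Submodule.mem_bot A, ← hbot]; exact h)
    -- extension of `q₂` to `T`
    have key : ∀ (a : A) (x : T) (b : B), algebraMap A L a * x.1 = algebraMap B L b →
        ∀ (a' : A) (b' : B), algebraMap A L a' * x.1 = algebraMap B L b' →
          algebraMap A B a' * b = algebraMap A B a * b' := by
      intro a x b h a' b' h'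
      apply hBL
      rw [map_mul, map_mul, ← IsScalarTower.algebraMap_apply, ← IsScalarTower.algebraMap_apply,
        ← h, ← h']
      ring
    have hwd : ∀ (a : A) (x : T) (b : B), a ≠ 0 → algebraMap A L a * x.1 = algebraMap B L b →
        ∀ (a' : A) (b' : B), a' ≠ 0 → algebraMap A L a' * x.1 = algebraMap B L b' →
          b ∈ q₂ → b' ∈ q₂ := by
      intro a x b ha h a' b' ha' h' hb
      have hmem : algebraMap A B a * b' ∈ q₂ := key a x b h a' b' h' ▸ q₂.mul_mem_left _ hb
      exact (hq₂.mem_or_mem hmem).resolve_left (hA2 a ha)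
    let R₂ : Ideal T :=
      { carrier := {x | ∃ a : A, a ≠ 0 ∧ ∃ b ∈ q₂, algebraMap A L a * x.1 = algebraMap B L b}
        zero_mem' := ⟨1, one_ne_zero, 0, q₂.zero_mem, by simp⟩
        add_mem' := by
          rintro x y ⟨a, ha, b, hb, h⟩ ⟨a', ha', b', hb', h'⟩
          refine ⟨a * a', mul_ne_zero ha ha', algebraMap A B a' * b + algebraMap A B a * b',
            q₂.add_mem (q₂.mul_mem_left _ hb) (q₂.mul_mem_left _ hb'), ?_⟩
          show algebraMap A L (a * a') * (x.1 + y.1) = _
          simp only [map_mul, map_add, ← h, ← h', ← IsScalarTower.algebraMap_apply]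
          ring
        smul_mem' := by
          rintro c x ⟨a, ha, b, hb, h⟩
          obtain ⟨a', ha', b', h'⟩ := hTden c
          refine ⟨a * a', mul_ne_zero ha ha', b' * b, q₂.mul_mem_left _ hb, ?_⟩
          show algebraMap A L (a * a') * (c.1 * x.1) = _
          simp only [map_mul, ← h, ← h']
          ring }
    have hR₂ : R₂.IsPrime := by
      refine Ideal.isPrime_iff.2 ⟨fun h => ?_, fun {x y} hxy => ?_⟩
      · obtain ⟨a, ha, b, hb, h⟩ := (Ideal.eq_top_iff_one _).1 h
        rw [show ((1 : T) : L) = 1 from rfl, mul_one, IsScalarTower.algebraMap_apply A B L] at h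
        exact hA2 a ha (hBL h ▸ hb)
      · obtain ⟨a, ha, b, hb, h⟩ := hxy
        obtain ⟨ax, hax, bx, hx⟩ := hTden x
        obtain ⟨ay, hay, by_, hy⟩ := hTden y
        have h2 : algebraMap A L (ax * ay) * (x * y).1 = algebraMap B L (bx * by_) := by
          show algebraMap A L (ax * ay) * (x.1 * y.1) = _
          simp only [map_mul, ← hx, ← hy]
          ring
        rcases hq₂.mem_or_mem (hwd a (x * y) b ha h _ _ (mul_ne_zero hax hay) h2 hb) with h3 | h3
        · exact Or.inl ⟨ax, hax, bx, h3, hx⟩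
        · exact Or.inr ⟨ay, hay, by_, h3, hy⟩
    have hjR : ∀ b, jT b ∈ R₂ ↔ b ∈ q₂ := by
      refine fun b => ⟨?_, fun hb => ⟨1, one_ne_zero, b, hb, by simp [jT]⟩⟩
      rintro ⟨a, ha, b', hb', h⟩
      exact hwd a (jT b) b' ha h 1 b one_ne_zero (by simp [jT]) hb'
    have heq : R₂ = q₁ := by
      refine hq₁max R₂ hR₂ (fun x hx => ?_) ?_
      · obtain ⟨a, ha, b, h⟩ := hTden x
        refine ⟨a, ha, b, hle ?_, h⟩
        have : jT b = jT (algebraMap A B a) * x := Subtype.ext (by
          show algebraMap B L b = algebraMap B L (algebraMap A B a) * x.1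
          rw [← h, ← IsScalarTower.algebraMap_apply])
        rw [Ideal.mem_comap, this]
        exact q₁.mul_mem_left _ hx
      · refine (Submodule.eq_bot_iff _).2 fun o ho => ?_
        obtain ⟨a, ha, b, hb, h⟩ := ho
        obtain ⟨a₁, a₂, ha₂, hk⟩ := IsFractionRing.div_surjective (A := A) o.1
        have h2 : algebraMap A L a₂ * (algebraMap O T o).1 = algebraMap B L (algebraMap A B a₁) := by
          show algebraMap A L a₂ * algebraMap K L o.1 = _
          rw [← IsScalarTower.algebraMap_apply, IsScalarTower.algebraMap_apply A K L,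
            IsScalarTower.algebraMap_apply A K L, ← map_mul, ← hk,
            mul_div_cancel₀ _ (IsFractionRing.to_map_ne_zero_of_mem_nonZeroDivisors ha₂)]
        have h1 := hwd a _ b ha h a₂ _ (nonZeroDivisors.ne_zero ha₂) h2 hb
        have h3 : a₁ = 0 := by rw [← Submodule.mem_bot A, ← hbot]; exact h1
        refine Subtype.ext ?_
        rw [← hk, h3, map_zero, zero_div]
        rfl
    ext b
    rw [← hjR, heq]
    rfl

end GrothLib.SpecDense
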